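import Mathlib

/-!
# Homocyclic abelian `2`-groups of rank `3`

Power maps in a commutative group of order `8 ^ k` and exponent `2 ^ k` with exactly `7` involutions.
-/

set_option autoImplicit false

namespace Cfsg.Agent.GHE

section comm

variable {V : Type*} [CommGroup V] [Finite V]

/-- The kernel of the power map `x ↦ x ^ 2 ^ j`. -/
abbrev Kj (V : Type*) [CommGroup V] (j : ℕ) : Subgroup V := (powMonoidHom (2 ^ j) : V →* V).ker

omit [Finite V] in
theorem mem_Kj {j : ℕ} {x : V} : x ∈ Kj V j ↔ x ^ 2 ^ j = 1 := by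
  rw [MonoidHom.mem_ker, powMonoidHom_apply]

theorem card_Kj_add (i j : ℕ) : Nat.card (Kj V (i + j)) ≤ Nat.card (Kj V i) * Nat.card (Kj V j) := by
  let f : Kj V (i + j) →* V := (powMonoidHom (2 ^ i) : V →* V).comp (Kj V (i + j)).subtype
  have h1 : Nat.card (Kj V (i + j)) = Nat.card f.ker * Nat.card f.range := by
    rw [mul_comm, ← Subgroup.index_ker, mul_comm, Subgroup.card_mul_index]
  rw [h1]
  refine Nat.mul_le_mul ?_ ?_
  · refine Nat.card_le_card_of_injective (fun x : f.ker => (⟨x.1.1, ?_⟩ : Kj V i)) ?_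
    · exact x.2
    · intro x y h
      have h2 : ((x : Kj V (i + j)) : V) = ((y : Kj V (i + j)) : V) :=
        congrArg (fun z : Kj V i => (z : V)) h
      exact Subtype.ext (Subtype.ext h2)
  · refine Nat.card_le_card_of_injective (fun x : f.range => (⟨x.1, ?_⟩ : Kj V j)) ?_
    · obtain ⟨y, hy⟩ := x.2
      rw [mem_Kj, ← hy]
      show ((y : V) ^ 2 ^ i) ^ 2 ^ j = 1
      rw [← pow_mul, ← pow_add]
      exact mem_Kj.1 y.2
    · intro x y h
      exact Subtype.ext (by simpa using h)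

theorem card_Kj_le (h1 : Nat.card (Kj V 1) ≤ 8) (j : ℕ) : Nat.card (Kj V j) ≤ 8 ^ j := by
  induction j with
  | zero =>
    rw [pow_zero]
    refine (Subgroup.card_eq_one.2 ?_).le
    rw [eq_bot_iff]
    intro x hx
    rw [mem_Kj, pow_zero, pow_one] at hx
    exact hx
  | succ j ih =>
    calc Nat.card (Kj V (j + 1)) ≤ Nat.card (Kj V j) * Nat.card (Kj V 1) := card_Kj_add j 1
      _ ≤ 8 ^ j * 8 := Nat.mul_le_mul ih h1
      _ = 8 ^ (j + 1) := (pow_succ 8 j).symm

variable {k : ℕ}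

theorem card_Kj (h1 : Nat.card (Kj V 1) ≤ 8) (hc : Nat.card V = 8 ^ k) (hexp : ∀ x : V, x ^ 2 ^ k = 1) {j : ℕ}
    (hj : j ≤ k) : Nat.card (Kj V j) = 8 ^ j := by
  refine le_antisymm (card_Kj_le h1 j) ?_
  have h2 : Nat.card (Kj V k) = 8 ^ k := by
    rw [← hc]
    have : Kj V k = ⊤ := by
      rw [eq_top_iff]
      intro x _
      exact mem_Kj.2 (hexp x)
    rw [this, Subgroup.card_top]
  have h3 : Nat.card (Kj V k) ≤ Nat.card (Kj V j) * Nat.card (Kj V (k - j)) := by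
    have := card_Kj_add (V := V) j (k - j)
    rwa [Nat.add_sub_cancel' hj] at this
  have h4 := card_Kj_le h1 (k - j)
  rw [h2] at h3
  by_contra hlt
  push Not at hlt
  have h5 : Nat.card (Kj V j) * Nat.card (Kj V (k - j)) < 8 ^ j * 8 ^ (k - j) := by
    refine lt_of_le_of_lt (Nat.mul_le_mul_left _ h4) ?_
    exact Nat.mul_lt_mul_of_pos_right hlt (pow_pos (by norm_num) _)
  rw [← pow_add, Nat.add_sub_cancel' hj] at h5
  exact absurd h3 (not_le.2 h5)

/-- An element killed by `2 ^ j` is a `2 ^ (k - j)`-th power. -/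
theorem exists_pow_eq (h1 : Nat.card (Kj V 1) ≤ 8) (hc : Nat.card V = 8 ^ k) (hexp : ∀ x : V, x ^ 2 ^ k = 1)
    {j : ℕ} (hj : j ≤ k) {x : V} (hx : x ^ 2 ^ j = 1) : ∃ y : V, y ^ 2 ^ (k - j) = x := by
  have hle : (powMonoidHom (2 ^ (k - j)) : V →* V).range ≤ Kj V j := by
    rintro _ ⟨y, rfl⟩
    rw [mem_Kj, powMonoidHom_apply, ← pow_mul, ← pow_add, Nat.sub_add_cancel hj]
    exact hexp y
  have h2 : Nat.card (powMonoidHom (2 ^ (k - j)) : V →* V).range * Nat.card (Kj V (k - j)) = 8 ^ k := by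
    rw [← hc, ← Subgroup.index_ker, mul_comm]
    exact Subgroup.card_mul_index _
  rw [card_Kj h1 hc hexp (Nat.sub_le k j)] at h2
  have h3 : Nat.card (powMonoidHom (2 ^ (k - j)) : V →* V).range = 8 ^ j := by
    have h4 : (8 : ℕ) ^ k = 8 ^ j * 8 ^ (k - j) := by rw [← pow_add, Nat.add_sub_cancel' hj]
    rw [h4] at h2
    exact Nat.eq_of_mul_eq_mul_right (pow_pos (by norm_num) _) h2
  have h5 : (powMonoidHom (2 ^ (k - j)) : V →* V).range = Kj V j := by
    refine Subgroup.eq_of_le_of_card_ge hle ?_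
    rw [h3, card_Kj h1 hc hexp hj]
  have h6 : x ∈ (powMonoidHom (2 ^ (k - j)) : V →* V).range := by
    rw [h5]
    exact mem_Kj.2 hx
  exact h6

end comm

variable {G : Type*} [Group G]

/-- `V` is homocyclic of rank `3` and exponent `2 ^ k` (or smaller than that, a priori), with `Ω₁(V) = A`. -/
structure Homo (A V : Subgroup G) (k : ℕ) : Prop where
  comm : ∀ x ∈ V, ∀ y ∈ V, x * y = y * x
  card : Nat.card V = 8 ^ k
  exp : ∀ v ∈ V, v ^ 2 ^ k = 1
  om : ∀ v ∈ V, v * v = 1 → v ∈ A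
  A_le : A ≤ V
  A_card : Nat.card A = 8
  A_sq : ∀ a ∈ A, a * a = 1
  hk : 1 ≤ k

namespace Homo

variable {A V : Subgroup G} {k : ℕ} (H : Homo A V k)

include H

/-- The commutative group structure. -/
abbrev commGroup : CommGroup V :=
  { (inferInstance : Group V) with mul_comm := fun x y => Subtype.ext (H.comm x x.2 y y.2) }

theorem card_one [Finite G] : let _ := H.commGroup; Nat.card (Kj V 1) ≤ 8 := by
  let _ := H.commGroup
  rw [← H.A_card]
  refine Nat.card_le_card_of_injective (fun x : Kj V 1 => (⟨(x : V), ?_⟩ : A)) ?_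
  · have h1 := mem_Kj.1 x.2
    rw [pow_one, pow_two] at h1
    exact H.om _ (x : V).2 (congrArg Subtype.val h1)
  · intro x y h
    exact Subtype.ext (Subtype.ext (by simpa using h))

/-- An element of `V` killed by `2 ^ j` is a `2 ^ (k - j)`-th power. -/
theorem exists_pow [Finite G] {j : ℕ} (hj : j ≤ k) {x : G} (hx : x ∈ V) (hx1 : x ^ 2 ^ j = 1) :
    ∃ y ∈ V, y ^ 2 ^ (k - j) = x := by
  let _ := H.commGroup
  obtain ⟨y, hy⟩ := exists_pow_eq (V := V) (k := k) H.card_one H.card (fun v => Subtype.ext (H.exp v v.2)) hj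
    (x := ⟨x, hx⟩) (Subtype.ext hx1)
  exact ⟨y, y.2, congrArg Subtype.val hy⟩

/-- The elements of `V` killed by `2 ^ (k - 1)` are the squares. -/
theorem exists_sq [Finite G] {x : G} (hx : x ∈ V) (hx1 : x ^ 2 ^ (k - 1) = 1) : ∃ y ∈ V, x = y * y := by
  obtain ⟨y, hy, hyx⟩ := H.exists_pow (Nat.sub_le k 1) hx hx1
  refine ⟨y, hy, ?_⟩
  rw [← hyx, Nat.sub_sub_self H.hk, pow_one, pow_two]

theorem pow_mem {x : G} (hx : x ∈ V) : x ^ 2 ^ (k - 1) ∈ A := by
  apply H.om _ (V.pow_mem hx _)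
  have := H.exp x hx
  rw [← pow_two, ← pow_mul, ← pow_succ, Nat.sub_add_cancel H.hk]
  exact this

theorem sq_pow {x : G} (hx : x ∈ V) : (x * x) ^ 2 ^ (k - 1) = 1 := by
  rw [← pow_two, ← pow_mul, ← pow_succ', Nat.sub_add_cancel H.hk]
  exact H.exp x hx

/-- Every element of `A` is a `2 ^ (k - 1)`-th power. -/
theorem exists_root [Finite G] {a : G} (ha : a ∈ A) : ∃ y ∈ V, y ^ 2 ^ (k - 1) = a := by
  refine H.exists_pow H.hk (H.A_le ha) ?_
  rw [pow_one, pow_two]
  exact H.A_sq a ha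

theorem mul_pow {x y : G} (hx : x ∈ V) (hy : y ∈ V) (n : ℕ) : (x * y) ^ n = x ^ n * y ^ n :=
  (show Commute x y from H.comm x hx y hy).mul_pow n

theorem A_comm {a b : G} (ha : a ∈ A) (hb : b ∈ A) : a * b = b * a := H.comm a (H.A_le ha) b (H.A_le hb)

theorem A_inv {a : G} (ha : a ∈ A) : a⁻¹ = a := inv_eq_of_mul_eq_one_left (H.A_sq a ha)

end Homo

end Cfsg.Agent.GHE
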